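import Cfsg.Agent.H226.Tall.Gen
import Cfsg.Agent.H832.Tall.Split
import Cfsg.Agent.KFacts.MulFi24.Double
import Cfsg.Agent.H235.StdTwo
import Cfsg.Agent.TypeM.FactsMcL
import Cfsg.Agent.KFacts.ON.Sheet
import Cfsg.Agent.NotCT.Orders
import Cfsg.Agent.Lib.ComponentSolvable

/-!
# S2927, task 5473: `NotCP K` for `J₁`, `McL`, `Co₃`, `O'N`, `Ly` (helper965)

In these groups every 2-central involution is conjugate to an involution `z` whose centralizer has a component: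
`2 × A₅`, `2.A₈`, `2.Sp₆(2)`, `4.L₃(4).2`, `2.A₁₁`; a group of characteristic 2 has no component.
-/

set_option autoImplicit false

namespace Cfsg.Agent.H965.Tall

open Cfsg Subgroup Cfsg.Agent.H226.Tall
open Cfsg.Agent.H239.CharPLocal (CP cp_iff_genFitting cp_centralizer_conj)
open Cfsg.Agent.H832.Tall (conj_of_syl)

universe u

/-- a finite group with a component is not of characteristic 2 -/
theorem not_cp_of_component {C : Type*} [Group C] [Finite C] {L : Subgroup C} (h : IsComponent L) : ¬ CP 2 C := by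
  have hp2 : Fact (Nat.Prime 2) := ⟨Nat.prime_two⟩
  intro hcp
  rw [← cp_iff_genFitting] at hcp
  have h1 : L ≤ pCore 2 C := by
    rw [← hcp]
    exact le_sup_of_le_left (le_sSup h)
  have h2 : IsPGroup 2 ↥(pCore 2 C) := Cfsg.Agent.Lib.Cores.pCore_isPGroup 2
  have h3 : IsPGroup 2 ↥L := h2.to_le h1
  have hs : Group.IsNilpotent ↥L := h3.isNilpotent
  exact Cfsg.Agent.Lib.ComponentSolvable.quasisimple_not_solvable h.2 inferInstance

section

variable {K : Type u} [Group K] [Finite K]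

/-- the centralizer of `z` has a component -/
def HasC {K : Type*} [Group K] (z : K) : Prop := ∃ L : Subgroup K, IsComponentOf L (centralizer ({z} : Set K))

theorem HasC.not_cp {z : K} (h : HasC z) : ¬ CP 2 ↥(centralizer ({z} : Set K)) := by
  obtain ⟨L, hL⟩ := h
  exact not_cp_of_component hL.2

theorem not_cp_conj {z z₀ g : K} (hg : g * z₀ * g⁻¹ = z) (h : HasC z) : ¬ CP 2 ↥(centralizer ({z₀} : Set K)) := by
  intro hcp
  apply h.not_cp
  have h1 := (cp_cent_iff (MulAut.conj g) z₀).1 hcp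
  rwa [MulAut.conj_apply, hg] at h1

/-- all 2-central involutions are conjugate to `z` -/
theorem notCP_of_conj {z : K} (h : HasC z) (hcj : ∀ z₀ : K, TwoC z₀ → ∃ g : K, g * z₀ * g⁻¹ = z) : NotCP K := by
  intro z₀ hz₀
  obtain ⟨g, hg⟩ := hcj z₀ hz₀
  exact not_cp_conj hg h

theorem notCP_of_syl {z : K} (h : HasC z) (hS : ∃ S : Sylow 2 K, z ∈ S ∧ (∀ x ∈ S, x * z = z * x) ∧
    ∀ y ∈ S, (∀ x ∈ S, x * y = y * x) → y = 1 ∨ y = z) : NotCP K := by
  obtain ⟨S, -, -, hc⟩ := hS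
  exact notCP_of_conj h fun z₀ hz₀ => conj_of_syl (S := S)
    (fun y hy hyc => hc y (Cfsg.Agent.H832.Tall.mem_sylow_of_cent S hy hyc) hyc) hz₀

omit [Finite K] in
/-- `C(z)` is quasisimple -/
theorem hasC_of_quasi {z : K} (h : IsQuasisimple ↥(centralizer ({z} : Set K))) : HasC z :=
  ⟨_, Cfsg.Agent.OddTab.isComponentOf_of_normalized le_rfl h fun _ hg _ hx =>
    Subgroup.mul_mem _ (Subgroup.mul_mem _ hg hx) (Subgroup.inv_mem _ hg)⟩

omit [Finite K] in
theorem sq_of_twoC {z : K} (h : TwoC z) : z * z = 1 ∧ z ≠ 1 := by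
  have h1 := h.1
  refine ⟨by rw [← pow_two, ← h1, pow_orderOf_eq_one], ?_⟩
  rintro rfl
  rw [orderOf_one] at h1
  omega

/-! ### `J₁` -/

theorem notCP_j1 {K : Type*} [Group K] (h : Spor.IsoJ1 K) : NotCP K := by
  obtain ⟨e⟩ := h
  have hfin := NotResT.JOne.finite
  refine NotCP.congr (K := Spor.J1) ?_ e.symm
  intro t ht
  obtain ⟨-, F, _, _, -, hq, hc⟩ := NotResT.JOne.isJR Walter.StepAll.step
  have h3F : 3 < Fintype.card F := by omega
  have hs := TwoFusion.SLTwoFacts.isSimpleGroup_psl (F := F) h3F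
  have hna := GTwoRows.not_comm_psl (F := F) h3F
  obtain ⟨f⟩ := hc t ht.1
  obtain ⟨L, hL, -⟩ := NotResT.Comp.exists_comp_prod (CTwoTab.isQuasisimple_of_simple hna) f
  exact HasC.not_cp ⟨L, hL⟩

/-! ### `McL`, `Ly` -/

omit [Finite K] in
theorem quasi_of_mt {n : ℕ} (hn : 5 ≤ n) (L : TypeM.Two.MT n K) : IsQuasisimple ↥(centralizer ({L.t} : Set K)) := by
  have h := TypeM.CoverTools.isNonsplit_of_cover L.K (by omega)
  have h5 : 5 ≤ Nat.card (Fin n) := by rwa [Nat.card_fin]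
  refine ⟨⟨KFacts.MulFi24.Double.perfect_of_double h (commutator_alternatingGroup_eq_top h5)⟩, ?_⟩
  obtain ⟨e⟩ := h.2.1
  exact (MulEquiv.isSimpleGroup_congr e).2 (alternatingGroup.isSimpleGroup h5)

theorem notCP_of_mt {n : ℕ} (hn : 5 ≤ n) (L : TypeM.Two.MT n K) : NotCP K := by
  refine notCP_of_conj (hasC_of_quasi (quasi_of_mt hn L)) fun z₀ hz₀ => ?_
  obtain ⟨h1, h2⟩ := sq_of_twoC hz₀
  obtain ⟨g, hg⟩ := L.one z₀ h1 h2
  refine ⟨g⁻¹, ?_⟩
  rw [← hg]
  group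

end

theorem notCP_mcl {K : Type*} [Group K] (h : Spor.IsoMcL K) : NotCP K := by
  obtain ⟨_, -, -, ⟨L⟩⟩ := TypeM.FactsMcL.facts h
  exact notCP_of_mt (by norm_num) L

theorem notCP_ly {K : Type*} [Group K] (h : Spor.IsoLy K) : NotCP K := by
  obtain ⟨_, -, -, ⟨L⟩⟩ := TypeM.FactsLy.facts h
  exact notCP_of_mt (by norm_num) L

/-! ### `O'N` -/

theorem notCP_on {K : Type*} [Group K] (h : Spor.IsoON K) : NotCP K := by
  have : Finite K := Nat.finite_of_card_ne_zero (by rw [NotCT.Orders.on h]; norm_num)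
  obtain ⟨z, v, P, E, hsh⟩ := KFacts.ON.Sheet.exists_sheet h
  have hb := hsh.basic
  refine notCP_of_syl ⟨P, Cfsg.Agent.OddTab.isComponentOf_of_normalized
    (fun x hx => mem_centralizer_singleton_iff.2 (hb.cen x hx)) hsh.qs ?_⟩ hb.syl
  intro g hg x hx
  have hgz := mem_centralizer_singleton_iff.1 hg
  have h1 := Cfsg.Agent.OddHalf.D8.Sheet.map_P hb.perf hb.cen hb.der (MulAut.conj g)
    (by rw [MulAut.conj_apply, hgz, mul_inv_cancel_right]) hx
  exact h1

/-! ### `Co₃` -/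

open Cfsg.Agent.SporRec.TwoSp6.Model Cfsg.Agent.SporRec.Co3.Model Cfsg.Agent.SporRec.Co3.Ident
  Cfsg.Agent.SporRec.Co3.Chain Cfsg.Agent.SporRec.Co3.ChainData Cfsg.Agent.KFacts.Co3.Cent
  Cfsg.Agent.KFacts.Co3.Syl in
theorem notCP_co3 {K : Type*} [Group K] (h : Spor.IsoCo3 K) : NotCP K := by
  obtain ⟨e⟩ := h
  have hfin := CTwoTab.Co3.finite_G3
  obtain ⟨π, N⟩ := KFacts.Co3D4.exists_NS_G3
  have h1 : NotCP G3 := notCP_of_syl (hasC_of_quasi (CTwoTab.Co3.quasi_of_NS N)) KFacts.Co3.Syl.syl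
  exact h1.congr (equivCo3.trans e.symm)

end Cfsg.Agent.H965.Tall
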